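import Mathlib

/-! Eilenberg–Watts. -/

set_option autoImplicit false
set_option linter.style.haveILetI false

universe u

open CategoryTheory CategoryTheory.Limits
open scoped TensorProduct

namespace Groth.Agent.EilenbergWatts

variable {A B : Type u} [CommRing A] [CommRing B] (F : ModuleCat.{u} A ⥤ ModuleCat.{u} B)

lemma additive [PreservesFiniteColimits F] : F.Additive := by
  haveI : F.PreservesZeroMorphisms := Functor.preservesZeroMorphisms_of_preserves_initial_object (F := F)
  haveI := preservesBinaryBiproducts_of_preservesBinaryCoproducts F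
  exact Functor.additive_of_preservesBinaryBiproducts F

/-- The value at `A`. -/
def K : Type u := F.obj (ModuleCat.of A A)

instance : AddCommGroup (K F) := inferInstanceAs (AddCommGroup (F.obj (ModuleCat.of A A)))
instance : Module B (K F) := inferInstanceAs (Module B (F.obj (ModuleCat.of A A)))

/-- `a ↦ m • a`. -/
noncomputable def hat {M : ModuleCat.{u} A} (m : M) : ModuleCat.of A A ⟶ M :=
  ModuleCat.ofHom (LinearMap.toSpanSingleton A M m)

lemma hat_apply {M : ModuleCat.{u} A} (m : M) (a : A) : (hat m).hom a = a • m := rfl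

lemma hat_add {M : ModuleCat.{u} A} (m n : M) : hat (m + n) = hat m + hat n := by
  refine ModuleCat.hom_ext (LinearMap.ext fun a => ?_)
  exact smul_add a m n

lemma hat_comp {M N : ModuleCat.{u} A} (m : M) (f : M ⟶ N) : hat m ≫ f = hat (f.hom m) := by
  refine ModuleCat.hom_ext (LinearMap.ext fun a => ?_)
  exact f.hom.map_smul a m

lemma hat_smul {M : ModuleCat.{u} A} (m : M) (a : A) :
    hat (a • m) = hat (M := ModuleCat.of A A) a ≫ hat m := by
  refine ModuleCat.hom_ext (LinearMap.ext fun b => ?_)
  exact (mul_smul b a m).symm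

lemma hat_one : hat (M := ModuleCat.of A A) (1 : A) = 𝟙 _ := by
  refine ModuleCat.hom_ext (LinearMap.ext fun a => ?_)
  exact mul_one a

lemma hat_mul (a b : A) :
    hat (M := ModuleCat.of A A) (a * b) = hat (M := ModuleCat.of A A) b ≫ hat (M := ModuleCat.of A A) a := by
  rw [mul_comm]
  exact hat_smul (M := ModuleCat.of A A) a b

lemma smul_id_eq_hat (a : A) : (a • 𝟙 (ModuleCat.of A A)) = hat (M := ModuleCat.of A A) a := by
  refine ModuleCat.hom_ext (LinearMap.ext fun b => ?_)
  exact mul_comm a b

/-- The action of `A` on `F A`. -/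
noncomputable instance instSMul : SMul A (K F) :=
  ⟨fun a k => (F.map (hat (M := ModuleCat.of A A) a)).hom k⟩

lemma smul_def (a : A) (k : K F) : a • k = (F.map (hat (M := ModuleCat.of A A) a)).hom k := rfl

variable [F.Additive]

noncomputable instance : Module A (K F) where
  one_smul k := by rw [smul_def, hat_one, F.map_id]; rfl
  mul_smul a b k := by rw [smul_def, hat_mul, F.map_comp]; rfl
  smul_zero a := map_zero (F.map (hat (M := ModuleCat.of A A) a)).hom
  smul_add a x y := map_add (F.map (hat (M := ModuleCat.of A A) a)).hom x y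
  add_smul a b k := by
    rw [smul_def, hat_add, F.map_add]; rfl
  zero_smul k := by
    have h0 : hat (M := ModuleCat.of A A) (0 : A) = 0 :=
      ModuleCat.hom_ext (LinearMap.ext fun a => mul_zero a)
    rw [smul_def, h0, F.map_zero]; rfl

instance : SMulCommClass A B (K F) :=
  ⟨fun a b k => (F.map (hat (M := ModuleCat.of A A) a)).hom.map_smul b k⟩

lemma map_hat_smul {M : ModuleCat.{u} A} (a : A) (m : M) (k : K F) :
    (F.map (hat (a • m))).hom k = (F.map (hat m)).hom (a • k) := by
  rw [hat_smul, F.map_comp]; rfl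

/-- The comparison map. -/
noncomputable def ηAdd (M : ModuleCat.{u} A) : (K F ⊗[A] M) →+ F.obj M :=
  TensorProduct.liftAddHom
    { toFun := fun k =>
        { toFun := fun m => (F.map (hat m)).hom k
          map_zero' := by
            have h0 : hat (0 : M) = 0 := ModuleCat.hom_ext (LinearMap.ext fun a => smul_zero a)
            rw [h0, F.map_zero]; rfl
          map_add' := fun m n => by rw [hat_add, F.map_add]; rfl }
      map_zero' := AddMonoidHom.ext fun m => map_zero (F.map (hat m)).hom
      map_add' := fun k l => AddMonoidHom.ext fun m => map_add (F.map (hat m)).hom k l }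
    (fun a k m => (map_hat_smul F a m k).symm)

lemma ηAdd_tmul (M : ModuleCat.{u} A) (k : K F) (m : M) : ηAdd F M (k ⊗ₜ m) = (F.map (hat m)).hom k := rfl

noncomputable def η (M : ModuleCat.{u} A) : (K F ⊗[A] M) →ₗ[B] F.obj M :=
  { ηAdd F M with
    map_smul' := fun b x => by
      induction x with
      | zero => simp
      | tmul k m =>
        rw [TensorProduct.smul_tmul']
        exact (F.map (hat m)).hom.map_smul b k
      | add x y hx hy =>
        simp only [AddHom.toFun_eq_coe, ZeroHom.toFun_eq_coe, AddMonoidHom.toZeroHom_coe] at hx hy ⊢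
        rw [smul_add, map_add, map_add, hx, hy, smul_add] }

lemma η_tmul (M : ModuleCat.{u} A) (k : K F) (m : M) : η F M (k ⊗ₜ m) = (F.map (hat m)).hom k := rfl

lemma η_nat {M N : ModuleCat.{u} A} (f : M ⟶ N) (x : K F ⊗[A] M) :
    η F N (LinearMap.lTensor (K F) f.hom x) = (F.map f).hom (η F M x) := by
  induction x with
  | zero => simp
  | tmul k m =>
    rw [LinearMap.lTensor_tmul, η_tmul, η_tmul, ← hat_comp, F.map_comp]; rfl
  | add x y hx hy => simp only [map_add, hx, hy]

lemma η_bijective_free (J : Type u) [PreservesColimitsOfShape (Discrete J) F] :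
    Function.Bijective (η F (ModuleCat.of A (J →₀ A))) := by
  classical
  let P := ModuleCat.of A (J →₀ A)
  let g : ∀ _ : J, ModuleCat.of A A ⟶ P := fun j => ModuleCat.ofHom (Finsupp.lsingle j)
  have hg : ∀ j, g j = hat (M := P) (Finsupp.single j 1) := fun j =>
    ModuleCat.hom_ext (LinearMap.ext fun a => by
      show Finsupp.single j a = a • Finsupp.single j 1
      rw [Finsupp.smul_single', mul_one])
  have hc : IsColimit (Cofan.mk P g) := mkCofanColimit _
    (fun s => ModuleCat.ofHom (Finsupp.lsum A fun j => (s.inj j).hom))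
    (fun s j => ModuleCat.hom_ext (LinearMap.ext fun a =>
      Finsupp.lsum_single A (fun j => (s.inj j).hom) j a))
    (fun s m hm => ModuleCat.hom_ext (Finsupp.lhom_ext fun j a => by
      show m.hom (Finsupp.single j a) = _
      rw [ModuleCat.hom_ofHom, Finsupp.lsum_single]
      exact LinearMap.congr_fun (congrArg ModuleCat.Hom.hom (hm j)) a))
  have hF := isColimitCofanMkObjOfIsColimit F _ _ hc
  let c : Cofan (fun _ : J => F.obj (ModuleCat.of A A)) :=
    Cofan.mk (ModuleCat.of B (J →₀ K F)) (fun j => ModuleCat.ofHom (Finsupp.lsingle (R := B) (M := K F) j))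
  let d : F.obj P ⟶ ModuleCat.of B (J →₀ K F) := hF.desc c
  have hd : ∀ j, F.map (g j) ≫ d = ModuleCat.ofHom (Finsupp.lsingle (R := B) (M := K F) j) :=
    fun j => hF.fac c ⟨j⟩
  let s : ModuleCat.of B (J →₀ K F) ⟶ F.obj P :=
    ModuleCat.ofHom (Finsupp.lsum B fun j => (F.map (g j)).hom)
  have hs : d ≫ s = 𝟙 _ := hF.hom_ext fun ⟨j⟩ => by
    show F.map (g j) ≫ d ≫ s = F.map (g j) ≫ 𝟙 _
    rw [← Category.assoc, hd, Category.comp_id]
    exact ModuleCat.hom_ext (LinearMap.ext fun k =>
      Finsupp.lsum_single B (fun j => (F.map (g j)).hom) j k)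
  let e : (K F ⊗[A] P) ≃ₗ[A] J →₀ K F := TensorProduct.finsuppScalarRight A A (K F) J
  have he : ∀ x, d.hom (η F P x) = e x := by
    intro x
    induction x with
    | zero => rw [map_zero, map_zero, map_zero]
    | add x y hx hy => simp only [map_add, hx, hy]
    | tmul k p =>
      induction p using Finsupp.induction_linear with
      | zero =>
        show d.hom (η F P (k ⊗ₜ (0 : J →₀ A))) = e (k ⊗ₜ (0 : J →₀ A))
        rw [TensorProduct.tmul_zero, map_zero, map_zero, map_zero]
      | add p q hp hq =>
        show d.hom (η F P (k ⊗ₜ (p + q))) = e (k ⊗ₜ (p + q))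
        rw [TensorProduct.tmul_add, map_add, map_add, map_add, hp, hq]
      | single j a =>
        have h1 : (Finsupp.single j a : J →₀ A) = a • Finsupp.single j 1 := by
          rw [Finsupp.smul_single', mul_one]
        have h2 : η F P (k ⊗ₜ Finsupp.single j a) = (F.map (g j)).hom (a • k) := by
          rw [η_tmul, h1, map_hat_smul, hg]
        rw [h2]
        refine (LinearMap.congr_fun (congrArg ModuleCat.Hom.hom (hd j)) (a • k)).trans ?_
        refine Finsupp.ext fun i => ?_
        refine Eq.trans ?_ (TensorProduct.finsuppScalarRight_apply_tmul_apply k (Finsupp.single j a : J →₀ A) i).symm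
        show Finsupp.single j (a • k) i = Finsupp.single j a i • k
        rcases eq_or_ne j i with rfl | hne
        · simp
        · simp [Finsupp.single_eq_of_ne' hne]
  constructor
  · intro x y h
    apply e.injective
    rw [← he, ← he, h]
  · intro y
    refine ⟨e.symm (d.hom y), ?_⟩
    have h1 := he (e.symm (d.hom y))
    rw [LinearEquiv.apply_symm_apply] at h1
    have h2 := congrArg s.hom h1
    have h3 : ∀ z, s.hom (d.hom z) = z := fun z => LinearMap.congr_fun (congrArg ModuleCat.Hom.hom hs) z
    rwa [h3, h3] at h2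

theorem η_bijective [PreservesFiniteColimits F] [∀ J : Type u, PreservesColimitsOfShape (Discrete J) F]
    (M : ModuleCat.{u} A) : Function.Bijective (η F M) := by
  let P1 := ModuleCat.of A (M →₀ A)
  let q : P1 ⟶ M := ModuleCat.ofHom (Finsupp.linearCombination A id)
  have hq : Function.Surjective q.hom := Finsupp.linearCombination_id_surjective A M
  let P2 := ModuleCat.of A (LinearMap.ker q.hom →₀ A)
  let r : P2 ⟶ P1 := ModuleCat.ofHom (Finsupp.linearCombination A Subtype.val)
  have hrq : Function.Exact r.hom q.hom := by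
    rw [LinearMap.exact_iff]
    show LinearMap.ker q.hom = LinearMap.range (Finsupp.linearCombination A Subtype.val)
    rw [Finsupp.range_linearCombination, Subtype.range_coe_subtype]
    exact (Submodule.span_eq (LinearMap.ker q.hom)).symm
  let S := ShortComplex.mk r q (ModuleCat.hom_ext (LinearMap.ext fun x => hrq.apply_apply_eq_zero x))
  have hSe : S.Exact := (ShortComplex.moduleCat_exact_iff _).2 fun x hx => (hrq x).1 hx
  haveI : Epi S.g := (ModuleCat.epi_iff_surjective q).2 hq
  have htf : PreservesFiniteColimits F ↔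
      ∀ S : ShortComplex (ModuleCat.{u} A), S.Exact ∧ Epi S.g → (S.map F).Exact ∧ Epi (F.map S.g) :=
    (Functor.preservesFiniteColimits_tfae F).out 3 1
  obtain ⟨hFex, hFepi⟩ := htf.1 inferInstance S ⟨hSe, inferInstance⟩
  have hGs : Function.Surjective (LinearMap.lTensor (K F) q.hom) := LinearMap.lTensor_surjective _ hq
  have hGe : Function.Exact (LinearMap.lTensor (K F) r.hom) (LinearMap.lTensor (K F) q.hom) :=
    lTensor_exact _ hrq hq
  have hFs : Function.Surjective (F.map q).hom := (ModuleCat.epi_iff_surjective _).1 hFepi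
  obtain ⟨hi1, hs1⟩ := η_bijective_free F M
  obtain ⟨-, hs2⟩ := η_bijective_free F (LinearMap.ker q.hom)
  constructor
  · rw [injective_iff_map_eq_zero]
    intro x hx
    obtain ⟨y, rfl⟩ := hGs x
    rw [η_nat] at hx
    obtain ⟨z, hz⟩ := (ShortComplex.moduleCat_exact_iff _).1 hFex _ hx
    obtain ⟨w, rfl⟩ := hs2 z
    have : LinearMap.lTensor (K F) r.hom w = y := hi1 ((η_nat F r w).trans hz)
    rw [← this]
    exact hGe.apply_apply_eq_zero w
  · intro y
    obtain ⟨y1, rfl⟩ := hFs y
    obtain ⟨x1, rfl⟩ := hs1 y1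
    exact ⟨_, η_nat F q x1⟩

/-- The natural isomorphism `K ⊗ M ≅ F M`. -/
noncomputable def ηEquiv [PreservesFiniteColimits F] [∀ J : Type u, PreservesColimitsOfShape (Discrete J) F]
    (M : ModuleCat.{u} A) : (K F ⊗[A] M) ≃ₗ[B] F.obj M :=
  LinearEquiv.ofBijective (η F M) (η_bijective F M)

variable (F' : ModuleCat.{u} A ⥤ ModuleCat.{u} B) [F'.Additive]
  [PreservesFiniteColimits F] [∀ J : Type u, PreservesColimitsOfShape (Discrete J) F]

theorem natTrans_ext (t t' : F ⟶ F') (h : t.app (ModuleCat.of A A) = t'.app (ModuleCat.of A A)) : t = t' := by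
  refine NatTrans.ext (funext fun M => ModuleCat.hom_ext (LinearMap.ext fun y => ?_))
  obtain ⟨x, rfl⟩ := (η_bijective F M).2 y
  induction x with
  | zero => simp
  | add x y hx hy => simp only [map_add, hx, hy]
  | tmul k m =>
    rw [η_tmul]
    have e1 := LinearMap.congr_fun (congrArg ModuleCat.Hom.hom (t.naturality (hat m))) k
    have e2 := LinearMap.congr_fun (congrArg ModuleCat.Hom.hom (t'.naturality (hat m))) k
    refine e1.trans (Eq.trans ?_ e2.symm)
    rw [h]

theorem exists_natTrans (φ : F.obj (ModuleCat.of A A) ⟶ F'.obj (ModuleCat.of A A))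
    (hφ : ∀ a : A, F.map (hat (M := ModuleCat.of A A) a) ≫ φ = φ ≫ F'.map (hat (M := ModuleCat.of A A) a)) :
    ∃ t : F ⟶ F', t.app (ModuleCat.of A A) = φ := by
  let φ' : K F →ₗ[A] K F' :=
    { toFun := fun k => φ.hom k
      map_add' := fun x y => map_add φ.hom x y
      map_smul' := fun a k => LinearMap.congr_fun (congrArg ModuleCat.Hom.hom (hφ a)) k }
  let τ : ∀ M, F.obj M →+ F'.obj M := fun M =>
    (η F' M).toAddMonoidHom.comp ((φ'.rTensor M).toAddMonoidHom.comp (ηEquiv F M).symm.toLinearMap.toAddMonoidHom)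
  have hτ : ∀ M x, τ M (η F M x) = η F' M (φ'.rTensor M x) := fun M x => by
    show η F' M (φ'.rTensor M ((ηEquiv F M).symm (ηEquiv F M x))) = _
    rw [LinearEquiv.symm_apply_apply]
  let τL : ∀ M, F.obj M →ₗ[B] F'.obj M := fun M =>
    { τ M with
      map_smul' := fun b y => by
        obtain ⟨x, rfl⟩ := (η_bijective F M).2 y
        show τ M (b • η F M x) = b • τ M (η F M x)
        rw [← map_smul (η F M), hτ, hτ]
        induction x with
        | zero => simp
        | add x y hx hy => simp only [smul_add, map_add, hx, hy]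
        | tmul k m =>
          rw [TensorProduct.smul_tmul', LinearMap.rTensor_tmul, LinearMap.rTensor_tmul, η_tmul, η_tmul]
          exact ((congrArg (F'.map (hat m)).hom (φ.hom.map_smul b k))).trans ((F'.map (hat m)).hom.map_smul b _) }
  refine ⟨{ app := fun M => ModuleCat.ofHom (τL M), naturality := fun M N f => ?_ }, ?_⟩
  · refine ModuleCat.hom_ext (LinearMap.ext fun y => ?_)
    obtain ⟨x, rfl⟩ := (η_bijective F M).2 y
    show τ N ((F.map f).hom (η F M x)) = (F'.map f).hom (τ M (η F M x))
    rw [← η_nat, hτ, hτ, ← η_nat, ← LinearMap.comp_apply, ← LinearMap.comp_apply,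
      LinearMap.rTensor_comp_lTensor, LinearMap.lTensor_comp_rTensor]
  · refine ModuleCat.hom_ext (LinearMap.ext fun k => ?_)
    let k' : K F := k
    let one : ModuleCat.of A A := (1 : A)
    have h1' : hat one = 𝟙 (ModuleCat.of A A) := hat_one
    have hk : η F (ModuleCat.of A A) (k' ⊗ₜ one) = k := by
      rw [η_tmul, h1', F.map_id]; rfl
    have := hτ _ (k' ⊗ₜ one)
    rw [hk, LinearMap.rTensor_tmul, η_tmul, h1', F'.map_id] at this
    exact this

end Groth.Agent.EilenbergWatts
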